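import Cfsg.Agent.H756.PU.Engine

/-!
# S5258: the commuting lemma (G3)
-/

set_option autoImplicit false

namespace Cfsg.Agent.H12.PU

open Cfsg Cfsg.FusionSystem Cfsg.Agent.H756.PU Cfsg.Agent.H802

universe u

/-- a group is not the union of two proper subgroups -/
theorem le_or_le {G : Type*} [Group G] {A B C : Subgroup G} (h : ∀ g ∈ A, g ∈ B ∨ g ∈ C) : A ≤ B ∨ A ≤ C := by
  by_contra hcon
  push Not at hcon
  obtain ⟨h1, h2⟩ := hcon
  obtain ⟨x, hxA, hxB⟩ := SetLike.not_le_iff_exists.1 h1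
  obtain ⟨y, hyA, hyC⟩ := SetLike.not_le_iff_exists.1 h2
  have hxC : x ∈ C := (h x hxA).resolve_left hxB
  have hyB : y ∈ B := (h y hyA).resolve_right hyC
  rcases h (x * y) (A.mul_mem hxA hyA) with h3 | h3
  · exact hxB ((Subgroup.mul_mem_cancel_right B hyB).1 h3)
  · exact hyC ((Subgroup.mul_mem_cancel_left C hxC).1 h3)

/-- **(G3)** -/
theorem stComm : StComm.{u} := by
  intro Ω _ S E p Γ hE Γ0 A hAN hAE hcomm
  obtain ⟨a, haA, haE⟩ := SetLike.not_le_iff_exists.1 hAE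
  have haN := hAN haA
  obtain ⟨α, hα⟩ := exists_conjAut (P := E) haN.2
  obtain ⟨H, hHΓ, hHne, hSH, -, hspe⟩ := hE.spe
  have hαS : α ∈ autInducedBy S E := (mem_autInducedBy_iff S E α).2 ⟨a, haN.1, hα⟩
  have hαH : α ∈ H := hSH hαS
  have hαp : ∃ k : ℕ, α ^ p ^ k = 1 := by
    obtain ⟨k, hk⟩ := isPGroup_autInducedBy hE.pgr E ⟨α, hαS⟩
    exact ⟨k, congrArg Subtype.val hk⟩
  have hαI : α ∉ Inn E := by
    rintro ⟨e, he⟩
    apply haE
    have h1 : (e : Ω)⁻¹ * a ∈ E := by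
      refine hE.cent _ (S.mul_mem (S.inv_mem (hE.E_le e.2)) haN.1) fun x hx => ?_
      have h2 : ((α ⟨x, hx⟩ : E) : Ω) = a * x * a⁻¹ := hα ⟨x, hx⟩
      rw [← he, MulAut.conj_apply] at h2
      have h3 : (e : Ω) * x * (e : Ω)⁻¹ = a * x * a⁻¹ := h2
      have h4 : x = (e : Ω)⁻¹ * (a * x * a⁻¹) * e := by rw [← h3]; group
      symm
      calc x * ((e : Ω)⁻¹ * a) = ((e : Ω)⁻¹ * (a * x * a⁻¹) * e) * ((e : Ω)⁻¹ * a) := by rw [← h4]
        _ = (e : Ω)⁻¹ * a * x := by group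
    have h2 := E.mul_mem e.2 h1
    rwa [mul_inv_cancel_left] at h2
  have key : ∀ g ∈ Γ, g ∈ Γ0 ∨ g ∈ H := by
    intro g hg
    by_cases hg0 : g ∈ Γ0
    · exact Or.inl hg0
    · right
      have h1 := hcomm g hg hg0 a haA a haA α α hα hα
      -- the conjugate of `α` lies in `H`
      have h2 : g * α * g⁻¹ ∈ H := by
        by_contra h3
        apply hαI
        refine hspe _ (Γ.mul_mem (Γ.mul_mem hg (hHΓ hαH)) (Γ.inv_mem hg)) h3 α hαH ?_ hαp
        have h4 : g * α * g⁻¹ * α * (g * α * g⁻¹)⁻¹ = α := by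
          rw [← h1, mul_inv_cancel_right]
        rw [h4]
        exact hαH
      by_contra h3
      exact hαI (hspe g hg h3 α hαH h2 hαp)
  rcases le_or_le key with h | h
  · exact h
  · exact absurd (le_antisymm hHΓ h) hHne

end Cfsg.Agent.H12.PU
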